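import Groth.Agent.H30.LerayBase

/-!
# Vanishing of `H^n(X, F)` through a morphism with acyclic higher direct images below degree `n`
-/

set_option autoImplicit false
set_option linter.style.haveILetI false

universe u

open CategoryTheory Limits TopologicalSpace Opposite Abelian
open Groth.Agent.Lib.EtJ.RightAcyclic Groth.Agent.Lib.ZarCoh.Basic Groth.Agent.Lib.ZarCoh.Compare
open Groth.Agent.H30.RightAcyc Groth.Agent.H30.TopCoh Groth.Agent.H30.LerayBase

namespace Groth.Agent.Lib.LerayTop71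

variable {X Y : TopCat.{u}} (f : X ⟶ Y) {F : CohTop.Ab X}

lemma ext_subsingleton_of_iso {G G' : CohTop.Ab Y} (e : G ≅ G') {m : ℕ}
    (h : Subsingleton (Ext.{u} (Zs.obj (⊤ : Opens Y)) G m)) :
    Subsingleton (Ext.{u} (Zs.obj (⊤ : Opens Y)) G' m) := by
  refine subsingleton_of_forall_eq 0 fun x => ?_
  calc x = (x.comp (Ext.mk₀ e.inv) (add_zero _)).comp (Ext.mk₀ e.hom) (add_zero _) := by
        rw [Ext.comp_assoc_of_second_deg_zero, Ext.mk₀_comp_mk₀, Iso.inv_hom_id, Ext.comp_mk₀_id]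
    _ = 0 := by rw [h.elim (x.comp (Ext.mk₀ e.inv) (add_zero _)) 0, Ext.zero_comp]

/-- If `H^n(Y, f_*F) = 0`, `R^q f_*F` is acyclic for `1 ≤ q < n` and `R^n f_*F` has no global sections,
then `H^n(X, F) = 0`. -/
theorem subsingleton_H (n : ℕ) (h0 : Subsingleton (CohTop.H ((CohTop.push f).obj F) (n + 1)))
    (hq : ∀ q : ℕ, q < n → Acyc ((CohTop.Rpush f (q + 1)).obj F))
    (htop : Subsingleton (((CohTop.Rpush f (n + 1)).obj F).obj.obj (op ⊤) : Type u)) :
    Subsingleton (CohTop.H F (n + 1)) := by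
  let P := injectiveResolution F
  have hcyc : ∀ k : ℕ, k ≤ n → ∀ m : ℕ, k + m = n →
      Subsingleton (Ext.{u} (Zs.obj (⊤ : Opens Y)) ((CohTop.push f).obj (cyc P k)) (m + 1)) := by
    intro k
    induction k with
    | zero =>
      intro _ m hm
      obtain rfl : m = n := by omega
      exact ext_subsingleton_of_iso ((CohTop.push f).mapIso (isoCyc₀ P))
        ((hTop _ (m + 1)).symm.toEquiv.subsingleton)
    | succ k ih =>
      intro hk m hm
      have hA := seqA_shortExact f P k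
      have hB := seqB_shortExact f P k
      have hprev := ih (by omega) (m + 1) (by omega)
      have hcoker : Subsingleton (Ext.{u} (Zs.obj (⊤ : Opens Y)) (seqA f P k).X₃ (m + 1)) := by
        refine subsingleton_of_forall_eq 0 fun x => ?_
        obtain ⟨y, rfl⟩ := Ext.covariant_sequence_exact₃ _ hA x rfl (hprev.elim _ _)
        rw [(acyc_push_X f P k m).elim y 0, Ext.zero_comp]
      have hR : Acyc (seqB f P k).X₃ := Acyc.of_iso (isoCokernel P (CohTop.push f) k) (hq k (by omega))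
      refine subsingleton_of_forall_eq 0 fun x => ?_
      obtain ⟨y, rfl⟩ := Ext.covariant_sequence_exact₂ _ hB x ((hR m).elim _ _)
      rw [hcoker.elim y 0, Ext.zero_comp]
  have hA := seqA_shortExact f P n
  have hB := seqB_shortExact f P n
  haveI : Subsingleton (CohTop.HU (seqA f P n).X₁ 1 ⊤) := hcyc n le_rfl 0 (add_zero n)
  haveI hz : Subsingleton ((seqB f P n).X₃.obj.obj (op ⊤) : Type u) :=
    @Equiv.subsingleton _ _ (((sheafToPresheaf _ AddCommGrpCat.{u}).mapIso
      (isoCokernel P (CohTop.push f) n)).app (op ⊤)).addCommGroupIsoToAddEquiv.toEquiv.symm.symm.symm htop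
  refine @Equiv.subsingleton _ _ (hTop F (n + 1)).toEquiv ?_
  refine subsingleton_of_forall_eq 0 fun x => ?_
  obtain ⟨s, rfl⟩ := toHU_surjective (ofRes P) (n + 1) ⊤ x
  rw [toHU_succ_eq_zero_iff]
  obtain ⟨c, hc⟩ := Groth.Agent.Lib.Cech.Sections.app_exact hB ⊤ s (Subsingleton.elim _ _)
  obtain ⟨t, rfl⟩ := Groth.Agent.Lib.Cech.Sections.app_surjective hA ⊤ c
  refine ⟨t, Eq.trans ?_ hc⟩
  show ((CohTop.push f).map (seq P n).g).hom.app (op ⊤) t =
    ((cokernel.π _ ≫ jmap f P n) : _ ⟶ _).hom.app (op ⊤) t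
  rw [cokernel.π_desc]

end Groth.Agent.Lib.LerayTop71
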