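import Groth.Agent.Lib.LerayTop71.Abs
import Groth.Agent.Lib.FibreVanish36.Main
import Groth.Agent.Lib.FibreVanish36.Coherent
import Groth.Agent.Lib.FibreVanish36.Affine
import Groth.Agent.H52.PointSupp
import Groth.Agent.Lib.Amp36.Modif.Birat
import Groth.Agent.Lib.ClSub.Sections
import Groth.Agent.Lib.Curves.GlobalSections
import Groth.Agent.Lib.Modules.Stalk
import Groth.Agent.Lib.Modules.StalkModule
import Groth.Agent.Lib.Curves.LES

/-!
# Proper morphisms which are isomorphisms outside finitely many points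
-/

set_option autoImplicit false
set_option linter.style.haveILetI false
universe u

open CategoryTheory Limits AlgebraicGeometry TopologicalSpace Opposite

namespace Groth.Agent.Lib.LerayTop71.Points

open Groth.Agent.Lib Groth.Agent.Lib.Modules.StalkModule

variable {X Y : Scheme.{u}}

/-- A proper closed subset of an irreducible space of dimension `≤ n + 1` has dimension `≤ n`. -/
theorem dim_le_of_ne_univ {T : Type u} [TopologicalSpace T] [IrreducibleSpace T] (n : ℕ)
    (h : topologicalKrullDim T ≤ ((n + 1 : ℕ) : WithBot ℕ∞)) {F : Set T} (hF : IsClosed F)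
    (hne : F ≠ Set.univ) : topologicalKrullDim ↥F ≤ ((n : ℕ) : WithBot ℕ∞) := by
  refine iSup_le fun l => ?_
  let top : IrreducibleCloseds T := ⟨Set.univ, IrreducibleSpace.isIrreducible_univ T, isClosed_univ⟩
  let l' := l.map (IrreducibleCloseds.map (Subtype.val : F → T) continuous_subtype_val)
    (IrreducibleCloseds.map_strictMono_of_isInducing Topology.IsInducing.subtypeVal)
  have hlast : l'.last < top := by
    refine lt_of_le_of_ne (fun x _ => Set.mem_univ x) fun hc => hne (Set.eq_univ_of_forall fun x => ?_)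
    have hx : x ∈ (l'.last : Set T) := by rw [hc]; exact Set.mem_univ x
    exact (closure_minimal (by rintro _ ⟨z, -, rfl⟩; exact z.2) hF) hx
  have h1 := (Order.LTSeries.length_le_krullDim (l'.snoc top hlast)).trans h
  rw [RelSeries.snoc_length] at h1
  exact_mod_cast Nat.le_of_succ_le_succ (by exact_mod_cast h1 : l.length + 1 ≤ n + 1)

theorem flasque_acyc [IsLocallyNoetherian Y] (G : CohTop.Ab Y.toTopCat) (T : Set Y) (hT : T.Finite)
    (hTc : ∀ x ∈ T, IsClosed ({x} : Set Y))
    (h : ∀ x : Y, x ∉ T → Subsingleton ((H34.VanishOne.St (X := Y.toTopCat) x).obj G)) :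
    Groth.Agent.H30.LerayBase.Acyc G := fun p => by
  haveI := H52.PointSupp.isFlasque G T hTc (by
    rw [← Set.biUnion_of_singleton T]
    exact hT.isClosed_biUnion hTc) h
  exact ZarCoh.Basic.HU_flasque G ⊤ p

theorem dim_fiber_le_zero (f : X ⟶ Y) (U : Y.Opens) [IsIso (f ∣_ U)] {y : Y} (hy : y ∈ U) :
    topologicalKrullDim ↥(f.fiber y) ≤ ((0 : ℕ) : WithBot ℕ∞) := by
  rw [FibreDim.Basic.topologicalKrullDim_fiber]
  haveI : Subsingleton ↥(f.base ⁻¹' {y}) := ⟨fun a b => Subtype.ext
    (Amp36.Modif.Birat.eq_of_apply_eq f U (show f a.1 ∈ U by rw [show f a.1 = y from a.2]; exact hy)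
      ((show f a.1 = y from a.2).trans (show f b.1 = y from b.2).symm))⟩
  haveI : Subsingleton (IrreducibleCloseds ↥(f.base ⁻¹' {y})) := ⟨fun s t => IrreducibleCloseds.ext
    ((Set.eq_univ_of_forall fun z => by obtain ⟨w, hw⟩ := s.isIrreducible.nonempty
                                        rwa [Subsingleton.elim z w]).trans
      (Set.eq_univ_of_forall fun z => by obtain ⟨w, hw⟩ := t.isIrreducible.nonempty
                                         rwa [Subsingleton.elim z w]).symm)⟩
  exact Order.krullDim_nonpos_of_subsingleton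

/-- `H^{n+1}(X, F) = 0` as soon as `H^{n+1}(Y, f_*F) = 0`, for `f` proper, an isomorphism outside
finitely many closed points, with fibres of dimension `≤ n`. -/
theorem subsingleton_HH [IsLocallyNoetherian Y] (f : X ⟶ Y) [IsProper f] (T : Set Y) (hT : T.Finite)
    (hTc : ∀ x ∈ T, IsClosed ({x} : Set Y)) (U : Y.Opens) (hU : ∀ x, x ∉ T → x ∈ U) [IsIso (f ∣_ U)]
    (n : ℕ) (hd : ∀ y, topologicalKrullDim ↥(f.fiber y) ≤ ((n : ℕ) : WithBot ℕ∞))
    (F : X.Modules) [F.IsQuasicoherent]
    (h0 : Subsingleton (Coh.HH Y ((Coh.push f).obj F) (n + 1))) :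
    Subsingleton (Coh.HH X F (n + 1)) := by
  refine LerayTop71.subsingleton_H f.base (F := Coh.toAb F) n h0 (fun q _ => ?_) ?_
  · exact flasque_acyc _ T hT hTc fun x hx => AddCommGrpCat.subsingleton_of_isZero
      (FibreVanish36.Main.stalk_vanish f FibreVanish36.Coherent.cohVanish x 0
        (dim_fiber_le_zero f U (hU x hx)) F (q + 1) (by omega))
  · have hz : IsZero ((CohTop.Rpush f.base (n + 1)).obj (Coh.toAb F)) :=
      FibreVanish36.Affine.isZero_of_stalk _ fun x =>
        FibreVanish36.Main.stalk_vanish f FibreVanish36.Coherent.cohVanish x n (hd x) F (n + 1) (by omega)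
    exact AddCommGrpCat.subsingleton_of_isZero
      (((sheafToPresheaf _ AddCommGrpCat.{u}) ⋙ (evaluation _ _).obj (op ⊤)).map_isZero hz)

/-- The inclusion of an ideal is onto on stalks off its support. -/
theorem idealModι_stalk_surjective (I : X.IdealSheafData) {x : X} (hx : x ∉ I.support) :
    Function.Surjective (stalkMapₗ (_root_.ClSub.idealModι I) x) := by
  intro v
  obtain ⟨W, hW, s, rfl⟩ := TopCat.Presheaf.exists_germ_eq (Coh.structureModule X).presheaf v
  obtain ⟨V, hV, hxV, hle⟩ := exists_isAffineOpen_mem_and_subset (X := X)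
    (U := W ⊓ I.support.compl) (x := x) ⟨hW, hx⟩
  have htop : I.ideal ⟨V, hV⟩ = ⊤ := by
    rw [eq_top_iff]
    have h1 : X.zeroLocus (U := V) (I.ideal ⟨V, hV⟩ : Set Γ(X, V)) ∩ V ⊆ ∅ := fun z hz => by
      have h2 : z ∈ (I.support : Set X) ∩ V := by
        rw [I.coe_support_inter ⟨V, hV⟩]
        exact hz
      exact (hle h2.2).2 h2.1
    have := (hV.fromSpec_image_zeroLocus _).trans_subset h1
    simp only [Set.subset_empty_iff, Set.image_eq_empty] at this
    rw [PrimeSpectrum.zeroLocus_empty_iff_eq_top.mp this]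
  obtain ⟨m, hm⟩ := (ClSub.Sections.mem_range_idealModι_app_affine_iff I ⟨V, hV⟩
    ((Coh.structureModule X).presheaf.map (homOfLE fun z hz => (hle hz).1).op s)).2 (htop ▸ Submodule.mem_top)
  refine ⟨(_root_.ClSub.idealMod I).presheaf.germ V x hxV m, ?_⟩
  erw [stalkMapₗ_germ, hm]
  exact TopCat.Presheaf.germ_res_apply _ _ x hxV s

/-- A monomorphism that is onto on the stalks over `U` stays so after direct image. -/
theorem push_stalk_surjective (f : X ⟶ Y) {A B : X.Modules} (ψ : A ⟶ B) [Mono ψ] (U : Y.Opens)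
    (h : ∀ x, f x ∈ U → Function.Surjective (stalkMapₗ ψ x)) {y : Y} (hy : y ∈ U) :
    Function.Surjective (stalkMapₗ ((Coh.push f).map ψ) y) := by
  intro v
  obtain ⟨W, hW, s, rfl⟩ := TopCat.Presheaf.exists_germ_eq ((Coh.push f).obj B).presheaf v
  let s' : Γ(B, f ⁻¹ᵁ (W ⊓ U)) :=
    ((Coh.push f).obj B).presheaf.map (homOfLE (inf_le_left : W ⊓ U ≤ W)).op s
  obtain ⟨t, ht⟩ := TopCat.Presheaf.app_surjective_of_stalkFunctor_map_bijective
    (f := (SheafOfModules.toSheaf X.ringCatSheaf).map ψ) (f ⁻¹ᵁ (W ⊓ U)) (fun x hx => by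
      exact ⟨(Modules.Stalk.mono_iff_stalk_injective ψ).1 inferInstance x, h x hx.2⟩) s'
  refine ⟨((Coh.push f).obj A).presheaf.germ (W ⊓ U) y ⟨hW, hy⟩ t, ?_⟩
  erw [stalkMapₗ_germ]
  change ((Coh.push f).obj B).presheaf.germ (W ⊓ U) y ⟨hW, hy⟩ _ = _
  erw [ht]
  exact TopCat.Presheaf.germ_res_apply _ _ y (show y ∈ W ⊓ U from ⟨hW, hy⟩) s

/-- `H^{m+2}` of a direct image of a submodule which agrees off finitely many closed points. -/
theorem subsingleton_HH_push (k : Type u) [Field k] [Y.Over (Spec (CommRingCat.of k))]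
    [IsLocallyNoetherian Y] (f : X ⟶ Y) {A B : X.Modules} (ψ : A ⟶ B) [Mono ψ]
    (T : Set Y) (hT : T.Finite) (hTc : ∀ x ∈ T, IsClosed ({x} : Set Y))
    (U : Y.Opens) (hU : ∀ x, x ∉ T → x ∈ U)
    (h : ∀ x, f x ∈ U → Function.Surjective (stalkMapₗ ψ x)) (m : ℕ)
    (hB : Subsingleton (Coh.HH Y ((Coh.push f).obj B) (m + 2))) :
    Subsingleton (Coh.HH Y ((Coh.push f).obj A) (m + 2)) := by
  haveI : (Scheme.Modules.pushforward f).IsRightAdjoint :=
    (Scheme.Modules.pullbackPushforwardAdjunction f).isRightAdjoint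
  haveI : Mono ((Coh.push f).map ψ) := (Scheme.Modules.pushforward f).map_mono ψ
  let S : ShortComplex Y.Modules := ShortComplex.mk ((Coh.push f).map ψ) (cokernel.π _) (cokernel.condition _)
  have hS : S.ShortExact := { exact := ShortComplex.exact_cokernel _ }
  have hC : ∀ y, y ∉ T → Subsingleton (S.X₃.presheaf.stalk y) := fun y hy => by
    refine subsingleton_of_forall_eq 0 fun c => ?_
    obtain ⟨b, rfl⟩ := (Modules.Stalk.epi_iff_stalk_surjective S.g).1 hS.epi_g y c
    obtain ⟨a, rfl⟩ := push_stalk_surjective f ψ U h (hU y hy) b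
    exact ShortComplex.ab_zero_apply (S.map (Modules.Stalk.stalkFunctor Y y)) a
  haveI : Subsingleton (Coh.HH Y S.X₃ (m + 1)) :=
    @Equiv.subsingleton _ _ (ZarCoh.Compare.hTop (Coh.toAb S.X₃) (m + 1)).toEquiv
      (flasque_acyc (Coh.toAb S.X₃) T hT hTc hC m)
  haveI : Subsingleton (Coh.HH Y S.X₂ (m + 2)) := hB
  refine subsingleton_of_forall_eq 0 fun x => ?_
  obtain ⟨z, hz⟩ := (Curves.LES.exactK₁ k hS (m + 1) (m + 2) rfl x).1 (Subsingleton.elim _ _)
  rw [← hz, Subsingleton.elim z 0, map_zero]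

end Groth.Agent.Lib.LerayTop71.Points
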